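import Groth.Agent.LefPicLib.Main
import Groth.Agent.PullbackMod.LimFree
import Groth.Agent.VBLib.Point
import Groth.Prelude.Def_LefX

/-!
# Effective Lefschetz and Picard groups
-/

set_option autoImplicit false
set_option backward.isDefEq.respectTransparency false
set_option linter.style.haveILetI false
set_option maxHeartbeats 800000

universe u

open CategoryTheory CategoryTheory.Limits AlgebraicGeometry TopologicalSpace
open Scheme.Modules (pullbackComp pullbackCongr)
open Groth.Agent.PullbackMod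

noncomputable section

namespace Groth.Agent.LefPicLib

/-- Composite pullbacks on objects. -/
def pullPull {A B C : Scheme.{u}} {a : A ⟶ B} {b : B ⟶ C} {c : A ⟶ C} (h : a ≫ b = c) (M : C.Modules) :
    (Scheme.Modules.pullback a).obj ((Scheme.Modules.pullback b).obj M) ≅ (Scheme.Modules.pullback c).obj M :=
  (pullbackComp a b ≪≫ pullbackCongr h).app M

/-- Existence of an extension of an invertible module along a square zero thickening. -/
theorem exists_lift_module {P Z : Scheme.{u}} (k : P ⟶ Z) [IsClosedImmersion k] (hI : k.ker * k.ker = ⊥)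
    [Subsingleton (Coh.HH Z (kernel (ClSub.unitToPush k)) 2)] {L₀ : P.Modules} (hL₀ : PicF.IsInvertible L₀) :
    ∃ L : Z.Modules, PicF.IsInvertible L ∧ Nonempty ((Scheme.Modules.pullback k).obj L ≅ L₀) := by
  haveI : Subsingleton (Coh.HH Z (ClSub.idealMod k.ker) 2) :=
    ProjCoh.subsingleton_of_iso (nonempty_iso_kernel_unitToPush k).some.symm 2
  let e : P ≅ k.ker.subscheme := asIso k.toImage
  have he : e.hom ≫ k.ker.subschemeι = k := k.toImage_imageι
  obtain ⟨L, hL, ⟨φ⟩⟩ := PicDefLib.exists_lift k.ker hI (AmpleLib.isInvertible_pullback e.inv hL₀)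
  exact ⟨L, hL, ⟨(pullPull he L).symm ≪≫ (Scheme.Modules.pullback e.hom).mapIso φ ≪≫
    pullPull e.hom_inv_id L₀ ≪≫ (Scheme.Modules.pullbackId _).app L₀⟩⟩

variable {X : Scheme.{u}} [IsLocallyNoetherian X] (I : X.IdealSheafData)

omit [IsLocallyNoetherian X] in
theorem inclusion_comp {a b c : ℕ} (h : a ≤ b) (h' : b ≤ c) :
    Scheme.IdealSheafData.inclusion (pow_le_pow_of_le I h) ≫ Scheme.IdealSheafData.inclusion (pow_le_pow_of_le I h') =
      Scheme.IdealSheafData.inclusion (pow_le_pow_of_le I (h.trans h')) := by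
  rw [← cancel_mono (I ^ (c + 1)).subschemeι, Category.assoc, Scheme.IdealSheafData.inclusion_subschemeι,
    Scheme.IdealSheafData.inclusion_subschemeι, Scheme.IdealSheafData.inclusion_subschemeι]

/-- An invertible module on a thickening extends to a system of invertible modules on all thickenings. -/
theorem exists_system (n : ℕ)
    (hH2 : ∀ m : ℕ, n ≤ m → Subsingleton (Coh.HH X (kernel (Lef.quotMap (Lef.pow_succ_le I m))) 2))
    {N : (I ^ (n + 1)).subscheme.Modules} (hN : PicF.IsInvertible N) :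
    ∃ 𝔐 : FSch.ModSys (FSch.completionAlong X I), LefX.LevelwiseFinLocFree 𝔐 ∧ Nonempty (𝔐.F n ≅ N) := by
  let Z := fun j => (I ^ (j + 1)).subscheme
  let k : ∀ j, Z (n + j) ⟶ Z (n + (j + 1)) := fun j =>
    Scheme.IdealSheafData.inclusion (show I ^ (n + (j + 1) + 1) ≤ I ^ (n + j + 1) from Lef.pow_succ_le I (n + j))
  let A := fun j => { M : (Z (n + j)).Modules // PicF.IsInvertible M }
  have step : ∀ j (a : A j), ∃ b : A (j + 1), Nonempty ((Scheme.Modules.pullback (k j)).obj b.1 ≅ a.1) := fun j a => by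
    haveI := hH2 (n + j) (Nat.le_add_right _ _)
    haveI : Subsingleton (Coh.HH _ (kernel (ClSub.unitToPush (k j))) 2) := subsingleton_kernel I (n + j) 2
    obtain ⟨L, hL, e⟩ := exists_lift_module (k j) (ker_inclusion_sq I (n + j)) a.2
    exact ⟨⟨L, hL⟩, e⟩
  choose nx hnx using step
  let α : ∀ j, A j := fun j => Nat.rec (⟨N, hN⟩ : A 0) nx j
  let t : ∀ m, Z m ⟶ Z (n + m) := fun m => Scheme.IdealSheafData.inclusion (pow_le_pow_of_le I (Nat.le_add_left m n))
  have hkt : ∀ m, (FSch.completionAlong X I).ι m ≫ t (m + 1) = t m ≫ k m := fun m =>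
    (inclusion_comp I (Nat.le_succ m) (Nat.le_add_left (m + 1) n)).trans
      (inclusion_comp I (Nat.le_add_left m n) (Nat.le_succ (n + m))).symm
  let 𝔐 : FSch.ModSys (FSch.completionAlong X I) :=
    ⟨fun m => (Scheme.Modules.pullback (t m)).obj (α m).1, fun m =>
      pullPull (hkt m) _ ≪≫ (pullPull (rfl : t m ≫ k m = _) _).symm ≪≫
        (Scheme.Modules.pullback (t m)).mapIso (hnx m (α m)).some⟩
  refine ⟨𝔐, fun m => CurveLib.isFinLocFree_of_isInvertible (AmpleLib.isInvertible_pullback (t m) (α m).2), ?_⟩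
  have key : ∀ j, Nonempty ((Scheme.Modules.pullback (Scheme.IdealSheafData.inclusion
      (pow_le_pow_of_le I (Nat.le_add_right n j)))).obj (α j).1 ≅ N) := by
    intro j
    induction j with
    | zero =>
      refine ⟨(pullbackCongr ?_).app N ≪≫ (Scheme.Modules.pullbackId _).app N⟩
      rw [← cancel_mono (I ^ (n + 1)).subschemeι, Category.id_comp]
      exact Scheme.IdealSheafData.inclusion_subschemeι _
    | succ j ih =>
      obtain ⟨e⟩ := ih
      obtain ⟨e'⟩ := hnx j (α j)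
      exact ⟨(pullPull (inclusion_comp I (Nat.le_add_right n j) (Nat.le_succ (n + j))) _).symm ≪≫
        (Scheme.Modules.pullback _).mapIso e' ≪≫ e⟩
  exact key n

/-- Every invertible module on a thickening comes from a neighbourhood. -/
theorem exists_nhd_module (h : LefX.LeffCond X I) (n : ℕ)
    (hH2 : ∀ m : ℕ, n ≤ m → Subsingleton (Coh.HH X (kernel (Lef.quotMap (Lef.pow_succ_le I m))) 2))
    {N : (I ^ (n + 1)).subscheme.Modules} (hN : PicF.IsInvertible N) :
    ∃ (U : X.Opens) (L : (U : Scheme.{u}).Modules) (g : (I ^ (n + 1)).subscheme ⟶ U),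
      (I.support : Set X) ⊆ (U : Set X) ∧ g ≫ U.ι = (I ^ (n + 1)).subschemeι ∧ PicF.IsInvertible L ∧
        Nonempty ((Scheme.Modules.pullback g).obj L ≅ N) := by
  obtain ⟨𝔐, h𝔐, ⟨e₀⟩⟩ := exists_system I n hH2 hN
  obtain ⟨U, E, hU, hE, ⟨Φ⟩⟩ := h.2 𝔐 h𝔐
  let g := IsOpenImmersion.lift U.ι (I ^ (n + 1)).subschemeι (by
    rw [Scheme.Opens.range_ι, Scheme.IdealSheafData.range_subschemeι]
    exact fun y hy => hU ((Scheme.IdealSheafData.support_pow_succ I n).le hy))
  have hg : g ≫ U.ι = (I ^ (n + 1)).subschemeι := IsOpenImmersion.lift_fac _ _ _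
  let Φn : (FSch.completionMod I ((Scheme.Modules.pushforward U.ι).obj E)).F n ≅ 𝔐.F n :=
    ⟨Φ.hom.app n, Φ.inv.app n, congrArg (fun b => FSch.ModSys.Hom.app b n) Φ.hom_inv_id,
      congrArg (fun b => FSch.ModSys.Hom.app b n) Φ.inv_hom_id⟩
  let e : (Scheme.Modules.pullback g).obj E ≅ N :=
    (Scheme.Modules.pullback g).mapIso
      (((Scheme.Modules.restrictFunctorAdjCounitIso U.ι).app E).symm ≪≫
        (Scheme.Modules.restrictFunctorIsoPullback U.ι).app _) ≪≫
      pullPull hg _ ≪≫ Φn ≪≫ e₀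
  obtain ⟨hEq, hEp⟩ := PullbackMod.isQCoh_and_isFP_of_isFinLocFree E hE
  haveI := hEq
  let W : (U : Scheme.{u}).Opens := ⟨{x | FreeAt 1 E x}, isOpen_freeAt E hEp 1⟩
  have hsurj : ∀ x (hx : x ∈ I.support), ∃ z, g z = ⟨x, hU hx⟩ := fun x hx => by
    obtain ⟨z, hz⟩ : x ∈ Set.range (I ^ (n + 1)).subschemeι := by
      rw [Scheme.IdealSheafData.range_subschemeι, Scheme.IdealSheafData.support_pow_succ I n]
      exact hx
    refine ⟨z, U.ι.isOpenEmbedding.injective ?_⟩
    rw [← Scheme.Hom.comp_apply, hg, hz]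
    rfl
  have hW : (I.support : Set X) ⊆ (U.ι ''ᵁ W : Set X) := fun x hx => by
    obtain ⟨z, hz⟩ := hsurj x hx
    refine ⟨g z, ?_, congrArg U.ι hz⟩
    obtain ⟨r, hr⟩ := (isFinLocFree_iff_freeAt E hEp).1 hE (g z)
    obtain ⟨f⟩ := CurveLib.freeAt_one_of_isInvertible (ParaFLib.isInvertible_of_iso e.symm hN) z
    obtain rfl : r = 1 := freeAt_unique _ (freeAt_pullback E g z hr) ⟨f⟩
    exact hr
  have hle : U.ι ''ᵁ W ≤ U := U.ι_image_le W
  let j := X.homOfLE hle
  let g' := IsOpenImmersion.lift (U.ι ''ᵁ W).ι (I ^ (n + 1)).subschemeι (by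
    rw [Scheme.Opens.range_ι, Scheme.IdealSheafData.range_subschemeι]
    exact fun y hy => hW ((Scheme.IdealSheafData.support_pow_succ I n).le hy))
  have hg' : g' ≫ (U.ι ''ᵁ W).ι = (I ^ (n + 1)).subschemeι := IsOpenImmersion.lift_fac _ _ _
  have hgj : g' ≫ j = g := by
    rw [← cancel_mono U.ι, Category.assoc, Scheme.homOfLE_ι, hg', hg]
  have hLf := PullbackMod.isFinLocFree_pullback j E hE
  obtain ⟨hLq, hLp⟩ := PullbackMod.isQCoh_and_isFP_of_isFinLocFree _ hLf
  haveI := hLq
  refine ⟨_, (Scheme.Modules.pullback j).obj E, g', hW, hg',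
    VBLib.isInvertible_of_rank ((isFinLocFreeOfRank_iff_freeAt _ hLp 1).2 fun x => freeAt_pullback E j x ?_),
    ⟨pullPull hgj E ≪≫ e⟩⟩
  obtain ⟨w, hw, hwx⟩ := x.2
  have : j x = w := U.ι.isOpenEmbedding.injective (by
    rw [← Scheme.Hom.comp_apply, Scheme.homOfLE_ι]; exact hwx.symm)
  rw [this]
  exact hw

/-- A module trivial on a thickening is trivial on the neighbourhood. -/
theorem nonempty_iso_of_lef' (h : Lef.LefCond X I) (U : X.Opens) (hU : (I.support : Set X) ⊆ (U : Set X)) (n : ℕ)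
    (hH1 : ∀ m : ℕ, n ≤ m → Subsingleton (Coh.HH X (kernel (Lef.quotMap (Lef.pow_succ_le I m))) 1))
    {D : (U : Scheme.{u}).Modules} (hD : PicF.IsInvertible D)
    (g : (I ^ (n + 1)).subscheme ⟶ U) (hg : g ≫ U.ι = (I ^ (n + 1)).subschemeι)
    (φ : (Scheme.Modules.pullback g).obj D ≅ Coh.structureModule _) :
    Nonempty (D ≅ Coh.structureModule (U : Scheme.{u})) := by
  obtain ⟨θ, hθ⟩ := exists_to_thickening I U n
  have hθg : θ ≫ g = ((I.comap U.ι) ^ (n + 1)).subschemeι := by
    rw [← cancel_mono U.ι, Category.assoc, hg, hθ]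
  exact nonempty_iso_of_lef I h U hU n hH1 hD
    ((pullPull hθg D).symm ≪≫ (Scheme.Modules.pullback θ).mapIso φ ≪≫ AmpleLib.pullO θ)

end Groth.Agent.LefPicLib
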