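import Groth.Agent.LefAmpleLib.Open
import Groth.Agent.S14995
import Groth.Agent.DCohLib.StalkTensor
import Groth.Agent.ParaFLib.Stalk
import Groth.Agent.PullbackMod.Hom

/-!
# Maps to the structure sheaf extend from neighbourhoods of a closed subscheme
-/

set_option autoImplicit false
set_option backward.isDefEq.respectTransparency false
set_option backward.isDefEq.respectTransparency.types false
set_option linter.style.haveILetI false

universe u

open CategoryTheory CategoryTheory.Limits AlgebraicGeometry TopologicalSpace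
open Groth.Agent.PullbackMod
open scoped TensorProduct

noncomputable section

namespace Groth.Agent.LefPicLib

variable {X Y : Scheme.{u}} (j : X ⟶ Y) [IsOpenImmersion j]

local notation "R" => Scheme.Modules.restrictFunctor j

/-- If the formal bijection holds above and below, restriction of maps into `O` is bijective. -/
theorem bijective_restrict (I : Y.IdealSheafData) (M : Y.Modules)
    (hQ : ∀ n, Function.Bijective (fun φ : M ⟶ ClSub.quotMod (I ^ (n + 1)) => (R).map φ))
    (h : Lef.HomToFormalBijective I M) (h' : Lef.HomToFormalBijective (I.comap j) ((R).obj M)) :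
    Function.Bijective (fun φ : M ⟶ Coh.structureModule Y => (R).map φ) := by
  let u := LefAmpleLib.resUnit j
  choose θ hθ using fun n : ℕ => LefAmpleLib.exists_quotIso j (I ^ (n + 1)) (EtAlgEasy.PrinPartSym.comap_pow j I n)
  have hθ' : ∀ n, (R).map (ClSub.toSubscheme (I ^ (n + 1))) ≫ (θ n).hom =
      u.hom ≫ ClSub.toSubscheme ((I.comap j) ^ (n + 1)) := fun n => by
    rw [← hθ n, LefAmpleLib.resToSub, Category.assoc, Iso.hom_inv_id_assoc]
  refine ⟨fun φ ψ e => h.1 φ ψ fun n => (hQ n).1 (by simp only [Functor.map_comp] at e ⊢; rw [e]), fun χ => ?_⟩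
  choose z hz using fun n => (hQ n).2 (χ ≫ (R).map (ClSub.toSubscheme (I ^ (n + 1))))
  simp only at hz
  obtain ⟨φ, hφ⟩ := h.2 z fun n => (hQ n).1 (by
    show (R).map _ = (R).map _
    rw [Functor.map_comp, hz, hz, Category.assoc, ← Functor.map_comp, LefAmpleLib.toSubscheme_quotMap])
  refine ⟨φ, ?_⟩
  have := h'.1 ((R).map φ ≫ u.hom) (χ ≫ u.hom) fun n => by
    rw [Category.assoc, Category.assoc, ← hθ' n, ← Functor.map_comp_assoc, hφ n, hz, Category.assoc]
  exact (cancel_mono u.hom).1 this

/-- A map from an invertible module to `O` is surjective at a point where its pullback is an isomorphism. -/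
theorem bijective_stalk_of_isIso_pullback {Z : Scheme.{u}} (g : Z ⟶ Y) {L : Y.Modules} (hL : PicF.IsInvertible L)
    [Coh.IsQCoh L] (φ : L ⟶ Coh.structureModule Y) [IsIso ((Scheme.Modules.pullback g).map φ)] (z : Z) :
    Function.Bijective (stalkLin φ (g z)) := by
  letI := (g.stalkMap z).hom.toAlgebra
  let A := Y.presheaf.stalk (g z)
  let A' := Z.presheaf.stalk z
  obtain ⟨e, he⟩ := ParaFLib.exists_stalk_gen hL (g z)
  obtain ⟨c, hc⟩ := (ParaFLib.bijective_oneG (g z)).2 (stalkLin φ (g z) e)
  let E := LinearEquiv.ofBijective (LinearMap.toSpanSingleton A _ (ParaFLib.oneG (g z))) (ParaFLib.bijective_oneG (g z))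
  let ℓ : (Coh.structureModule Y).presheaf.stalk (g z) →ₗ[A] A' := (Algebra.linearMap A A').comp E.symm.toLinearMap
  let Q : A' ⊗[A] (Coh.structureModule Y).presheaf.stalk (g z) →ₗ[A] A' :=
    (LinearMap.mul' A A').comp (ℓ.lTensor A')
  have hQ : ∀ (r : A') (a : A), Q (r ⊗ₜ (a • ParaFLib.oneG (g z))) = r * algebraMap A A' a := fun r a => by
    show r * algebraMap A A' (E.symm (a • ParaFLib.oneG (g z))) = _
    rw [show E.symm (a • ParaFLib.oneG (g z)) = a from E.symm_apply_apply a]
  have hu : IsUnit c := by
    by_contra hc'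
    obtain ⟨w, hw⟩ := (surjective_stalk_pullback_iff g φ z).1 ((isIso_iff_stalk _).1 inferInstance z).2
      ((1 : A') ⊗ₜ[A] ((1 : A) • ParaFLib.oneG (g z)))
    have hmem : ∀ w : A' ⊗[A] L.presheaf.stalk (g z),
        Q ((stalkLin φ (g z)).lTensor A' w) ∈ IsLocalRing.maximalIdeal A' := by
      intro w
      induction w using TensorProduct.induction_on with
      | zero => simp
      | tmul r m =>
        obtain ⟨b, rfl⟩ := he.2 m
        rw [LinearMap.lTensor_tmul, map_smul, ← hc, smul_smul, hQ]
        refine Ideal.mul_mem_left _ _ ((IsLocalRing.mem_maximalIdeal _).2 fun h => hc' ?_)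
        exact isUnit_of_mul_isUnit_right (isUnit_of_map_unit (g.stalkMap z).hom _ h)
      | add a b ha hb =>
        rw [map_add, map_add]
        exact add_mem ha hb
    have := hmem w
    rw [hw, hQ, map_one, mul_one] at this
    exact (Ideal.ne_top_iff_one _).1 (IsLocalRing.maximalIdeal.isMaximal A').ne_top this
  refine ⟨fun m m' h => ?_, fun t => ?_⟩
  · obtain ⟨b, rfl⟩ := he.2 m
    obtain ⟨b', rfl⟩ := he.2 m'
    simp only [map_smul, ← hc, smul_smul] at h
    exact congrArg (· • e) (hu.mul_left_injective ((ParaFLib.bijective_oneG (g z)).1 h))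
  · obtain ⟨a, rfl⟩ := (ParaFLib.bijective_oneG (g z)).2 t
    exact ⟨(a * hu.unit⁻¹) • e, by simp only [map_smul, ← hc, smul_smul, mul_assoc, IsUnit.val_inv_mul, mul_one]⟩

/-- Tensoring keeps stalkwise isomorphisms. -/
theorem bijective_stalk_tensor {M M' : Y.Modules} (f : M ⟶ M') (N : Y.Modules) (y : Y)
    (hf : Function.Bijective (stalkLin f y)) :
    Function.Bijective (stalkLin (((DCoh.tensorBi (X := Y)).map f).app N) y) := by
  refine (Function.Bijective.of_comp_iff _ (DCohLib.stalkTensor y M N).bijective).1 ?_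
  refine (congrArg Function.Bijective (funext fun z => DCohLib.stalkTensor_natural_left y f z)).mpr ?_
  exact (DCohLib.stalkTensor y M' N).bijective.comp
    ((LinearEquiv.ofBijective _ hf).rTensor (N.presheaf.stalk y)).bijective

end Groth.Agent.LefPicLib
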