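import Groth.Agent.LefPicLib.Step
import Groth.Agent.EtAlgEasy.PrinPartSym
import Groth.Agent.BlowCompLib.Compose

/-!
# Formal trivialisations of an invertible module near a closed subscheme
-/

set_option autoImplicit false
set_option backward.isDefEq.respectTransparency false
set_option linter.style.haveILetI false

universe u

open CategoryTheory CategoryTheory.Limits AlgebraicGeometry TopologicalSpace
open Scheme.Modules (pullbackPushforwardAdjunction pullbackComp)
open Groth.Agent.LefEtaleLib (secMap)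

noncomputable section

namespace Groth.Agent.LefPicLib

variable {X : Scheme.{u}} [IsLocallyNoetherian X] (I : X.IdealSheafData)

omit [IsLocallyNoetherian X] in
theorem pow_le_pow_of_le {a b : ℕ} (h : a ≤ b) : I ^ (b + 1) ≤ I ^ (a + 1) := by
  induction h with
  | refl => exact le_rfl
  | step _ ih => exact (Lef.pow_succ_le I _).trans ih

omit [IsLocallyNoetherian X] in
/-- Consecutive thickenings differ by a square zero ideal. -/
theorem ker_inclusion_sq (m : ℕ) :
    (Scheme.IdealSheafData.inclusion (Lef.pow_succ_le I m)).ker *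
      (Scheme.IdealSheafData.inclusion (Lef.pow_succ_le I m)).ker = ⊥ := by
  let k := Scheme.IdealSheafData.inclusion (Lef.pow_succ_le I m)
  let ι' := (I ^ (m + 2)).subschemeι
  let K := (I ^ (m + 1)).comap ι'
  have hle : k.ker ≤ K := by
    let θ := ((I ^ (m + 1)).comapIso ι').hom ≫ pullback.snd _ _
    have hθ : θ ≫ k = K.subschemeι := by
      rw [← cancel_mono ι', Category.assoc, Scheme.IdealSheafData.inclusion_subschemeι]
      simp only [θ, Category.assoc, ← pullback.condition]
      exact Scheme.IdealSheafData.comapIso_hom_fst_assoc _ _ _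
    have := Scheme.Hom.le_ker_comp θ k
    rw [hθ, Scheme.IdealSheafData.ker_subschemeι] at this
    exact this
  refine le_bot_iff.1 ((mul_le_mul' hle hle).trans ?_)
  rw [← BlowCompLib.comap_mul, ← Scheme.IdealSheafData.le_map_iff_comap_le, Scheme.IdealSheafData.map_bot,
    Scheme.IdealSheafData.ker_subschemeι, ← pow_add]
  exact pow_le_pow_of_le I (show m + 1 ≤ m + 1 + m by omega)

/-- The vanishing on the ambient scheme is a vanishing on the thickening. -/
theorem subsingleton_kernel (m : ℕ) (i : ℕ) [Subsingleton (Coh.HH X (kernel (Lef.quotMap (Lef.pow_succ_le I m))) i)] :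
    Subsingleton (Coh.HH ((I ^ (m + 2)).subscheme)
      (kernel (ClSub.unitToPush (Scheme.IdealSheafData.inclusion (Lef.pow_succ_le I m)))) i) := by
  let k := Scheme.IdealSheafData.inclusion (Lef.pow_succ_le I m)
  let ι' := (I ^ (m + 2)).subschemeι
  haveI : IsLocallyNoetherian (I ^ (m + 2)).subscheme := LocallyOfFiniteType.isLocallyNoetherian ι'
  haveI : IsLocallyNoetherian (I ^ (m + 1)).subscheme :=
    LocallyOfFiniteType.isLocallyNoetherian (I ^ (m + 1)).subschemeι
  let K := kernel (ClSub.unitToPush k)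
  haveI : Coh.IsQCoh K := (QCohLib.isCoh_kernel_cokernel _ (DevLib.isCoh_structureModule _)
    (DevLib.isCoh_pushforward_closed k (DevLib.isCoh_structureModule _))).1.1
  let e : (Scheme.Modules.pushforward ι').obj K ≅ kernel (Lef.quotMap (Lef.pow_succ_le I m)) :=
    PreservesKernel.iso (Scheme.Modules.pushforward ι') (ClSub.unitToPush k) ≪≫
      (kernelCompMono ((Scheme.Modules.pushforward ι').map (ClSub.unitToPush k))
        ((Scheme.Modules.pushforwardComp k ι').hom.app _ ≫
          (Scheme.Modules.pushforwardCongr (Scheme.IdealSheafData.inclusion_subschemeι (Lef.pow_succ_le I m))).hom.app _)).symm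
  haveI : Subsingleton (Coh.HH X ((Scheme.Modules.pushforward ι').obj K) i) := ProjCoh.subsingleton_of_iso e.symm i
  obtain ⟨ε, -⟩ := ProperFin.exists_pushEquiv ι' (M := K)
    (fun V hV k => CohBase.affine_vanishing K (hV.preimage ι') k) i
  exact ε.toEquiv.subsingleton

variable (U : X.Opens)

omit [IsLocallyNoetherian X] in
/-- The thickenings of `I|_U` map to those of `I` over `X`. -/
theorem exists_to_thickening (m : ℕ) : ∃ θ : ((I.comap U.ι) ^ (m + 1)).subscheme ⟶ (I ^ (m + 1)).subscheme,
    θ ≫ (I ^ (m + 1)).subschemeι = ((I.comap U.ι) ^ (m + 1)).subschemeι ≫ U.ι := by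
  refine ⟨Scheme.IdealSheafData.inclusion (EtAlgEasy.PrinPartSym.comap_pow U.ι I m).le ≫
    ((I ^ (m + 1)).comapIso U.ι).hom ≫ pullback.snd _ _, ?_⟩
  simp only [Category.assoc, ← pullback.condition]
  rw [Scheme.IdealSheafData.comapIso_hom_fst_assoc, ← Category.assoc, Scheme.IdealSheafData.inclusion_subschemeι]

omit [IsLocallyNoetherian X] in
theorem exists_lift_thickening (hU : (I.support : Set X) ⊆ (U : Set X)) (m : ℕ) :
    ∃ g : (I ^ (m + 1)).subscheme ⟶ (U : Scheme.{u}), g ≫ U.ι = (I ^ (m + 1)).subschemeι := by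
  refine ⟨IsOpenImmersion.lift U.ι (I ^ (m + 1)).subschemeι ?_, IsOpenImmersion.lift_fac _ _ _⟩
  rw [Scheme.Opens.range_ι, Scheme.IdealSheafData.range_subschemeι]
  exact fun y hy => hU ((Scheme.IdealSheafData.support_pow_succ I m).le hy)

omit [IsLocallyNoetherian X] in
theorem exists_from_thickening (m : ℕ) (g : (I ^ (m + 1)).subscheme ⟶ (U : Scheme.{u}))
    (hg : g ≫ U.ι = (I ^ (m + 1)).subschemeι) :
    ∃ σ : (I ^ (m + 1)).subscheme ⟶ ((I.comap U.ι) ^ (m + 1)).subscheme,
      σ ≫ ((I.comap U.ι) ^ (m + 1)).subschemeι = g := by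
  refine ⟨pullback.lift g (𝟙 _) (by rw [hg, Category.id_comp]) ≫ ((I ^ (m + 1)).comapIso U.ι).inv ≫
    Scheme.IdealSheafData.inclusion (EtAlgEasy.PrinPartSym.comap_pow U.ι I m).ge, ?_⟩
  rw [Category.assoc, Category.assoc, Scheme.IdealSheafData.inclusion_subschemeι,
    Scheme.IdealSheafData.comapIso_inv_subschemeι, pullback.lift_fst]

/-- An invertible module trivial on one thickening has a formal family that is a trivialisation along the
closed subscheme. -/
theorem exists_formal_triv (hU : (I.support : Set X) ⊆ (U : Set X)) (n : ℕ)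
    (hH1 : ∀ m : ℕ, n ≤ m → Subsingleton (Coh.HH X (kernel (Lef.quotMap (Lef.pow_succ_le I m))) 1))
    {D : (U : Scheme.{u}).Modules} (hD : PicF.IsInvertible D)
    (φ₀ : (Scheme.Modules.pullback ((I.comap U.ι) ^ (n + 1)).subschemeι).obj D ≅ Coh.structureModule _) :
    ∃ y : ∀ m : ℕ, D ⟶ ClSub.quotMod ((I.comap U.ι) ^ (m + 1)), Lef.IsFormalHom (I.comap U.ι) D y ∧
      ∃ a : (Scheme.Modules.pullback ((I.comap U.ι) ^ (0 + 1)).subschemeι).obj D ⟶ Coh.structureModule _,
        IsIso a ∧ (pullbackPushforwardAdjunction ((I.comap U.ι) ^ (0 + 1)).subschemeι).homEquiv _ _ a = y 0 := by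
  let J := I.comap U.ι
  choose g hg using exists_lift_thickening I U hU
  choose θ hθ using exists_to_thickening I U
  obtain ⟨σ, hσ⟩ := exists_from_thickening I U n (g n) (hg n)
  let k := fun j => Scheme.IdealSheafData.inclusion
    (show I ^ (n + (j + 1) + 1) ≤ I ^ (n + j + 1) from Lef.pow_succ_le I (n + j))
  have hk : ∀ j, k j ≫ g (n + (j + 1)) = g (n + j) := fun j => by
    rw [← cancel_mono U.ι, Category.assoc, hg, hg]
    exact Scheme.IdealSheafData.inclusion_subschemeι _
  let A := fun j => (Scheme.Modules.pullback (g (n + j))).obj D ≅ Coh.structureModule (I ^ (n + j + 1)).subscheme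
  let c := fun j => pullbackComp (k j) (g (n + (j + 1))) ≪≫ Scheme.Modules.pullbackCongr (hk j)
  have step : ∀ j (a : A j), ∃ b : A (j + 1), (c j).inv.app D ≫
      (Scheme.Modules.pullback (k j)).map b.hom ≫ (AmpleLib.pullO (k j)).hom = a.hom := fun j a => by
    haveI := hH1 (n + j) (Nat.le_add_right _ _)
    haveI : Subsingleton (Coh.HH _ (kernel (ClSub.unitToPush (k j))) 1) := subsingleton_kernel I (n + j) 1
    obtain ⟨ψ, hψ⟩ := exists_lift_triv (k j) (ker_inclusion_sq I (n + j))
      (AmpleLib.isInvertible_pullback (g (n + (j + 1))) hD) ((c j).app D ≪≫ a)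
    refine ⟨ψ, ?_⟩
    rw [hψ]
    exact Iso.inv_hom_id_app_assoc (c j) D _
  choose nx hnx using step
  let a₀ : A 0 := ((pullbackComp σ (J ^ (n + 1)).subschemeι ≪≫ Scheme.Modules.pullbackCongr hσ).app D).symm ≪≫
    (Scheme.Modules.pullback σ).mapIso φ₀ ≪≫ AmpleLib.pullO σ
  let α : ∀ j, A j := fun j => Nat.rec a₀ nx j
  let y' := fun j => (pullbackPushforwardAdjunction (g (n + j))).homEquiv _ _ (α j).hom
  have hy' : ∀ j, y' (j + 1) ≫ secMap (k j) (hk j) = y' j := fun j => by
    refine (LefEtaleLib.homEquiv_map_secMap (k j) (hk j) (α (j + 1)).hom).symm.trans ?_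
    exact congrArg _ (hnx j (α j))
  let t := fun m : ℕ => θ m ≫ Scheme.IdealSheafData.inclusion (pow_le_pow_of_le I (Nat.le_add_left m n))
  have ht : ∀ m, t m ≫ g (n + m) = (J ^ (m + 1)).subschemeι := fun m => by
    rw [← cancel_mono U.ι]
    simp only [t, Category.assoc, hg, Scheme.IdealSheafData.inclusion_subschemeι, hθ]
    rfl
  refine ⟨fun m => y' m ≫ secMap (t m) (ht m), fun m => ?_,
    ((pullbackComp (t 0) (g (n + 0))) ≪≫ Scheme.Modules.pullbackCongr (ht 0)).inv.app D ≫
      (Scheme.Modules.pullback (t 0)).map (α 0).hom ≫ (AmpleLib.pullO (t 0)).hom, ?_,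
    LefEtaleLib.homEquiv_map_secMap (t 0) (ht 0) (α 0).hom⟩
  swap
  · exact (((pullbackComp (t 0) (g (n + 0)) ≪≫ Scheme.Modules.pullbackCongr (ht 0)).app D).symm ≪≫
      (Scheme.Modules.pullback (t 0)).mapIso (α 0) ≪≫ AmpleLib.pullO (t 0)).isIso_hom
  show (y' (m + 1) ≫ secMap (t (m + 1)) (ht (m + 1))) ≫ Lef.quotMap (Lef.pow_succ_le J m) = _
  rw [Category.assoc, LefEtaleLib.quotMap_eq_secMap, LefEtaleLib.secMap_comp]
  show _ = y' m ≫ secMap (t m) (ht m)
  rw [← hy' m, Category.assoc (y' (m + 1)), LefEtaleLib.secMap_comp]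
  exact congrArg (y' (m + 1) ≫ ·) (LefEtaleLib.secMap_congr (by
    rw [← cancel_mono (I ^ (n + (m + 1) + 1)).subschemeι]
    simp only [t, k, Category.assoc]
    repeat rw [Scheme.IdealSheafData.inclusion_subschemeι]
    rw [hθ, hθ, ← Category.assoc, Scheme.IdealSheafData.inclusion_subschemeι]) _ _)

end Groth.Agent.LefPicLib
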