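import Groth.Agent.LefPicLib.Families
import Groth.Agent.LefPicLib.Extend
import Groth.Agent.LocZLib.GammaQCoh
import Groth.Agent.PullbackMod.OpenLocus
import Groth.Agent.VBLib.Twist
import Groth.Agent.IntLib.Divisor

/-!
# The Lefschetz condition makes restriction of Picard groups injective
-/

set_option autoImplicit false
set_option backward.isDefEq.respectTransparency false
set_option linter.style.haveILetI false
set_option maxHeartbeats 800000

universe u

open CategoryTheory CategoryTheory.Limits AlgebraicGeometry TopologicalSpace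
open Scheme.Modules (pullbackPushforwardAdjunction)
open Groth.Agent.PullbackMod
open Groth.Agent.CurveLib (tensR)

noncomputable section

namespace Groth.Agent.LefPicLib

theorem bijective_map_of_natIso {C D : Type*} [Category C] [Category D] {F G : C ⥤ D} (τ : F ≅ G) {A B : C}
    (h : Function.Bijective (fun f : A ⟶ B => F.map f)) : Function.Bijective (fun f : A ⟶ B => G.map f) := by
  convert ((τ.app A).homCongr (τ.app B)).bijective.comp h using 1
  exact funext fun f => (NatIso.naturality_1 τ f).symm

theorem bijective_stalk_restrict {X Y : Scheme.{u}} (j : X ⟶ Y) [IsOpenImmersion j] {M N : Y.Modules} (f : M ⟶ N)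
    (x : X) (h : Function.Bijective (stalkLin f (j x))) :
    Function.Bijective (stalkLin ((Scheme.Modules.restrictFunctor j).map f) x) := by
  let e : ∀ K : Y.Modules, ((Scheme.Modules.restrictFunctor j).obj K).presheaf.stalk x ≃+ K.presheaf.stalk (j x) :=
    fun K => ((Scheme.Modules.restrictStalkNatIso j x).app K).addCommGroupIsoToAddEquiv
  refine (Function.Bijective.of_comp_iff' (e N).bijective _).1 ?_
  refine (congrArg Function.Bijective (funext fun m =>
    ConcreteCategory.congr_hom ((Scheme.Modules.restrictStalkNatIso j x).hom.naturality f) m)).mpr ?_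
  exact h.comp (e M).bijective

variable {X : Scheme.{u}} [IsLocallyNoetherian X] (I : X.IdealSheafData)

/-- Under the Lefschetz condition maps into `O` extend from a neighbourhood of the closed subscheme. -/
theorem bijective_restrict_le (h : Lef.LefCond X I) {U W' : X.Opens} (hle : W' ≤ U)
    (hW : (I.support : Set X) ⊆ (W' : Set X)) {M : (U : Scheme.{u}).Modules} (hM : FlatMod.IsFinLocFree M) :
    Function.Bijective (fun φ : M ⟶ Coh.structureModule (U : Scheme.{u}) =>
      (Scheme.Modules.restrictFunctor (X.homOfLE hle)).map φ) := by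
  let j := X.homOfLE hle
  haveI : IsLocallyNoetherian U.toScheme := isLocallyNoetherian_of_isOpenImmersion U.ι
  let W : (U : Scheme.{u}).Opens := U.ι ⁻¹ᵁ W'
  have hr : Set.range W.ι = Set.range j := by
    rw [Scheme.Opens.range_ι]
    ext x
    refine ⟨fun hx => ⟨⟨x.1, hx⟩, ?_⟩, ?_⟩
    · apply U.ι.isOpenEmbedding.injective
      show U.ι (j ⟨x.1, hx⟩) = U.ι x
      rw [← Scheme.Hom.comp_apply, Scheme.homOfLE_ι]
      rfl
    · rintro ⟨z, rfl⟩
      show U.ι (j z) ∈ W'
      rw [← Scheme.Hom.comp_apply, Scheme.homOfLE_ι]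
      exact z.2
  let e := IsOpenImmersion.isoOfRangeEq W.ι j hr
  have he : e.inv ≫ W.ι = j := IsOpenImmersion.isoOfRangeEq_inv_fac W.ι j hr
  let E := LocZLib.GammaQCoh.restrictEquivalence e.symm
  haveI : (Scheme.Modules.restrictFunctor e.inv).Full := inferInstanceAs E.functor.Full
  haveI : (Scheme.Modules.restrictFunctor e.inv).Faithful := inferInstanceAs E.functor.Faithful
  have hMc := CurveLib.isCoh_of_isFinLocFree hM
  have hQ : ∀ n, Function.Bijective (fun φ : M ⟶ ClSub.quotMod ((I.comap U.ι) ^ (n + 1)) =>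
      (Scheme.Modules.restrictFunctor j).map φ) := fun n =>
    bijective_map_of_natIso ((Scheme.Modules.restrictFunctorComp e.inv W.ι).symm ≪≫
        Scheme.Modules.restrictFunctorCongr he)
      (((Functor.FullyFaithful.ofFullyFaithful (Scheme.Modules.restrictFunctor e.inv)).homEquiv).bijective.comp
        (S14995.result _ _ M (IntLib.isCoh_quotMod _) hMc W fun y hy => by
          have hy' : y ∉ CohB1.support (ClSub.quotMod ((I.comap U.ι) ^ (n + 1))) := fun h => hy (hW (by
            have h2 := (Scheme.IdealSheafData.support_pow_succ (I.comap U.ι) n).le (IntLib.support_quotMod_subset _ h)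
            rw [Scheme.IdealSheafData.support_comap] at h2
            exact h2))
          haveI : Subsingleton ((ClSub.quotMod ((I.comap U.ι) ^ (n + 1))).presheaf.stalk y) := not_not.1 hy'
          rw [CAlgBasics.depth_eq_top]
          exact le_top))
  refine bijective_restrict j (I.comap U.ι) M hQ (h U (hW.trans hle) M hM) ?_
  rw [← Scheme.IdealSheafData.comap_comp, Scheme.homOfLE_ι]
  exact h W' hW _ (DCohLib.isFinLocFree_restrict j hM)

/-- A map between invertible modules with a one-sided inverse is an isomorphism. -/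
theorem isIso_of_comp_eq_id {Y : Scheme.{u}} {A B : Y.Modules} [Coh.IsQCoh A] [Coh.IsQCoh B]
    (hA : PicF.IsInvertible A) (hB : PicF.IsInvertible B) (f : A ⟶ B) (r : B ⟶ A) (h : f ≫ r = 𝟙 A) : IsIso f := by
  haveI : IsIso r := (isIso_iff_stalk r).2 fun y => by
    obtain ⟨a, ha⟩ := ParaFLib.exists_stalk_gen hA y
    obtain ⟨b, hb⟩ := ParaFLib.exists_stalk_gen hB y
    obtain ⟨c, hc⟩ := ha.2 (stalkLin r y b)
    simp only at hc
    have hs : ∀ z, stalkLin r y (stalkLin f y z) = z := fun z => by
      rw [← LinearMap.comp_apply, ← stalkLin_comp, h]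
      exact LinearMap.congr_fun (stalkLin_id y) z
    obtain ⟨d, hd⟩ := hb.2 (stalkLin f y a)
    have hu : d * c = 1 := by
      refine ha.1 ?_
      simp only [mul_smul, one_smul, hc, ← map_smul]
      simp only at hd
      rw [hd, hs]
    refine ⟨fun z w hzw => ?_, fun z => ⟨_, hs z⟩⟩
    obtain ⟨p, rfl⟩ := hb.2 z
    obtain ⟨q, rfl⟩ := hb.2 w
    simp only [map_smul, ← hc, smul_smul] at hzw
    exact congrArg (· • b) ((IsUnit.of_mul_eq_one_right d hu).mul_left_injective (ha.1 hzw))
  rw [(IsIso.eq_comp_inv r).2 h, Category.id_comp]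
  infer_instance

/-- An invertible module trivial on a thickening is trivial. -/
theorem nonempty_iso_of_lef (h : Lef.LefCond X I) (U : X.Opens) (hU : (I.support : Set X) ⊆ (U : Set X)) (n : ℕ)
    (hH1 : ∀ m : ℕ, n ≤ m → Subsingleton (Coh.HH X (kernel (Lef.quotMap (Lef.pow_succ_le I m))) 1))
    {D : (U : Scheme.{u}).Modules} (hD : PicF.IsInvertible D)
    (φ₀ : (Scheme.Modules.pullback ((I.comap U.ι) ^ (n + 1)).subschemeι).obj D ≅ Coh.structureModule _) :
    Nonempty (D ≅ Coh.structureModule (U : Scheme.{u})) := by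
  let J := I.comap U.ι
  haveI : IsLocallyNoetherian U.toScheme := isLocallyNoetherian_of_isOpenImmersion U.ι
  have hDf := CurveLib.isFinLocFree_of_isInvertible hD
  haveI := (PullbackMod.isQCoh_and_isFP_of_isFinLocFree D hDf).1
  haveI := (DevLib.isCoh_structureModule (U : Scheme.{u})).1
  obtain ⟨y, hy, a, ha, hay⟩ := exists_formal_triv I U hU n hH1 hD φ₀
  obtain ⟨φ, hφ⟩ := (h U hU D hDf).2 y hy
  haveI : IsIso ((Scheme.Modules.pullback (J ^ (0 + 1)).subschemeι).map φ) := by
    have : (Scheme.Modules.pullback (J ^ (0 + 1)).subschemeι).map φ ≫ (AmpleLib.pullO _).hom = a := by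
      apply ((pullbackPushforwardAdjunction (J ^ (0 + 1)).subschemeι).homEquiv _ _).injective
      rw [LefEtaleLib.homEquiv_pullbackO _ φ rfl, hay]
      exact hφ 0
    rw [← this] at ha
    exact IsIso.of_isIso_comp_right _ (AmpleLib.pullO _).hom
  let W : (U : Scheme.{u}).Opens := ⟨{x | Function.Bijective (stalkLin φ x)},
    isOpen_stalk_bijective φ (CurveLib.isCoh_of_isFinLocFree hDf).2
      (QCohLib.isFP_of_isCoh _ (DevLib.isCoh_structureModule _))⟩
  have hW : (I.support : Set X) ⊆ (U.ι ''ᵁ W : Set X) := fun x hx => by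
    refine ⟨⟨x, hU hx⟩, ?_, rfl⟩
    have hmem : (⟨x, hU hx⟩ : U.toScheme) ∈ Set.range (J ^ (0 + 1)).subschemeι := by
      rw [Scheme.IdealSheafData.range_subschemeι, zero_add, pow_one]
      show (⟨x, hU hx⟩ : U.toScheme) ∈ (I.comap U.ι).support
      rw [Scheme.IdealSheafData.support_comap]
      exact hx
    obtain ⟨z, hz⟩ := hmem
    show Function.Bijective (stalkLin φ _)
    rw [← hz]
    exact bijective_stalk_of_isIso_pullback _ hD φ z
  have hle : U.ι ''ᵁ W ≤ U := U.ι_image_le W
  obtain ⟨E, hE, ⟨η⟩⟩ := AmpleEmb.exists_isInverseOf hD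
  let j := X.homOfLE hle
  let G := tensR E
  haveI := VBLib.isEquivalence_tensR (AmpleLib.comm E D ≪≫ η)
  have hR : IsIso ((Scheme.Modules.restrictFunctor j).map (G.map φ)) := by
    refine (isIso_iff_stalk _).2 fun x => bijective_stalk_restrict j _ x (bijective_stalk_tensor φ E (j x) ?_)
    obtain ⟨w, hw, hwx⟩ := x.2
    have : j x = w := U.ι.isOpenEmbedding.injective (by
      rw [← Scheme.Hom.comp_apply, Scheme.homOfLE_ι]; exact hwx.symm)
    rw [this]
    exact hw
  have hGO : FlatMod.IsFinLocFree (G.obj (Coh.structureModule _)) :=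
    CurveLib.isFinLocFree_of_isInvertible (AmpleLib.isInvertible_tensor ParaFLib.isInvertible_structureModule hE)
  have hGD : FlatMod.IsFinLocFree (G.obj D) :=
    CurveLib.isFinLocFree_of_isInvertible (AmpleLib.isInvertible_tensor hD hE)
  obtain ⟨b, hb⟩ := (bijective_restrict_le I h hle hW hGO).2
    (inv ((Scheme.Modules.restrictFunctor j).map (G.map φ)) ≫ (Scheme.Modules.restrictFunctor j).map η.hom)
  simp only at hb
  have hbη : G.map φ ≫ b = η.hom := (bijective_restrict_le I h hle hW hGD).1 (by
    simp only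
    rw [Functor.map_comp, hb, IsIso.hom_inv_id_assoc])
  have hr : φ ≫ G.preimage (b ≫ η.inv) = 𝟙 D := G.map_injective (by
    rw [G.map_comp, G.map_preimage, ← Category.assoc, hbη, G.map_id]
    exact η.hom_inv_id)
  haveI := isIso_of_comp_eq_id hD ParaFLib.isInvertible_structureModule φ _ hr
  exact ⟨asIso φ⟩

end Groth.Agent.LefPicLib
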