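import Groth.Agent.PicDefLib.Main
import Groth.Agent.LefAmpleLib.Twist
import Groth.Agent.LefEtaleLib.Completion
import Groth.Agent.SerreAff.Free
import Groth.Agent.RibbonLib.ClosedImm
import Groth.Agent.DevLib.Closed

/-!
# Lifting a trivialisation of an invertible module along a square zero thickening
-/

set_option autoImplicit false
set_option backward.isDefEq.respectTransparency false
set_option linter.style.haveILetI false

universe u

open CategoryTheory CategoryTheory.Limits AlgebraicGeometry TopologicalSpace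
open Scheme.Modules (pullbackPushforwardAdjunction)
open Groth.Agent.CurveLib (secOf)

noncomputable section

namespace Groth.Agent.LefPicLib

variable {P Z : Scheme.{u}} (k : P ⟶ Z) [IsClosedImmersion k]

/-- Uniqueness of an extension of an invertible module along a square zero thickening. -/
theorem nonempty_iso_of_pullback (hI : k.ker * k.ker = ⊥) [Subsingleton (Coh.HH Z (ClSub.idealMod k.ker) 1)]
    {L M : Z.Modules} (hL : PicF.IsInvertible L) (hM : PicF.IsInvertible M)
    (φ : (Scheme.Modules.pullback k).obj L ≅ (Scheme.Modules.pullback k).obj M) : Nonempty (L ≅ M) := by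
  let i := k.ker.subschemeι
  let e : P ≅ k.ker.subscheme := asIso k.toImage
  have hei : e.inv ≫ k = i := by rw [Iso.inv_comp_eq]; exact k.toImage_imageι.symm
  exact PicDefLib.nonempty_iso_of_pullback k.ker hI hL hM
    ((((Scheme.Modules.pullbackComp e.inv k).app L) ≪≫ (eqToIso (by rw [hei]))).symm ≪≫
      (Scheme.Modules.pullback e.inv).mapIso φ ≪≫
      (((Scheme.Modules.pullbackComp e.inv k).app M) ≪≫ (eqToIso (by rw [hei]))))

/-- The ideal module of a closed immersion is the kernel of the projection to the pushed structure sheaf. -/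
theorem nonempty_iso_kernel_unitToPush :
    Nonempty (ClSub.idealMod k.ker ≅ kernel (ClSub.unitToPush k)) := by
  let e : P ≅ k.ker.subscheme := asIso k.toImage
  have he : e.hom ≫ k.ker.subschemeι = k := k.toImage_imageι
  haveI : IsIso (ClSub.unitToPush e.hom) := by
    haveI := SerreAff.epi_unitToPush e.hom
    refine Scheme.Modules.Hom.isIso_iff_isIso_app.2 fun V => ?_
    exact inferInstanceAs (IsIso ((forget₂ CommRingCat RingCat ⋙ forget₂ RingCat AddCommGrpCat).map (e.hom.app V)))
  refine ⟨(kernelCompMono (ClSub.toSubscheme k.ker) ((Scheme.Modules.pushforward k.ker.subschemeι).map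
    (ClSub.unitToPush e.hom) ≫ (Scheme.Modules.pushforwardComp e.hom k.ker.subschemeι).hom.app _ ≫
      (Scheme.Modules.pushforwardCongr he).hom.app _)).symm ≪≫ eqToIso ?_⟩
  congr 1
  rw [← LefAmpleLib.unitToPush_congr he, ← LefAmpleLib.unitToPush_comp, Category.assoc, Category.assoc]

theorem surjective_app_top {X : Scheme.{u}} {M N : X.Modules} (f : M ⟶ N) [Epi f]
    [Subsingleton (Coh.HH X (kernel f) 1)] :
    Function.Surjective (f.app ⊤) := by
  intro c
  obtain ⟨w, hw⟩ := LefAmpleLib.surjective_H_map_g (QCohLib.toAb_shortExact (CMRegLib.shortExact_ker f)) 0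
    (by assumption) ((secOf N).symm c)
  refine ⟨secOf M w, ?_⟩
  have h : secOf N (Sheaf.H.map ((SheafOfModules.toSheaf X.ringCatSheaf).map f) 0 w) = f.app ⊤ (secOf M w) := by
    show CohBase.H0Equiv (⊤ : X.Opens) (Coh.toAb N) (CohBase.HEquiv _ 0 (Sheaf.H.map _ 0 _)) = _
    rw [CohBase.HEquiv_map, CohBase.H0Equiv_hmap]
    rfl
  rw [← h]
  exact (congrArg (secOf N) hw).trans ((secOf N).apply_symm_apply c)

/-- The function of an endomorphism of the structure sheaf. -/
def endVal {X : Scheme.{u}} (g : Coh.structureModule X ⟶ Coh.structureModule X) : Γ(X, ⊤) := g.app ⊤ (1 : Γ(X, ⊤))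

theorem endVal_comp {X : Scheme.{u}} (g f : Coh.structureModule X ⟶ Coh.structureModule X) :
    endVal (g ≫ f) = endVal g * endVal f := by
  show f.app ⊤ (endVal g) = _
  rw [AmpleLib.app_eq]
  exact congrArg (endVal g * ·) (Groth.Agent.CohBase.res_self (P := (Coh.structureModule X).presheaf) _ _)

theorem endVal_secHom {X : Scheme.{u}} (v : Γ(X, ⊤)) : endVal (DCohLib.secHom (Coh.structureModule X) v) = v :=
  AmpleLib.sec_secHom (L := Coh.structureModule X) v

theorem isIso_of_isUnit_endVal {X : Scheme.{u}} (g : Coh.structureModule X ⟶ Coh.structureModule X)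
    (hg : IsUnit (endVal g)) : IsIso g := by
  obtain ⟨v, hv⟩ := isUnit_iff_exists_inv.1 hg
  refine ⟨⟨DCohLib.secHom (Coh.structureModule X) v, DCohLib.hom_unit_ext ?_, DCohLib.hom_unit_ext ?_⟩⟩
  · refine (endVal_comp g _).trans ?_
    rw [endVal_secHom]
    exact hv
  · refine (endVal_comp _ g).trans ?_
    rw [endVal_secHom, mul_comm]
    exact hv

theorem isUnit_endVal_of_isIso {X : Scheme.{u}} (g : Coh.structureModule X ⟶ Coh.structureModule X) [IsIso g] :
    IsUnit (endVal g) := by
  refine isUnit_iff_exists_inv.2 ⟨endVal (inv g), ?_⟩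
  rw [← endVal_comp, IsIso.hom_inv_id]
  rfl

variable (hk : k.ker * k.ker = ⊥) [Subsingleton (Coh.HH Z (kernel (ClSub.unitToPush k)) 1)]

include hk in
/-- A trivialisation on the subscheme lifts to the thickening. -/
theorem exists_lift_triv {L : Z.Modules} (hL : PicF.IsInvertible L)
    (φ : (Scheme.Modules.pullback k).obj L ≅ Coh.structureModule P) :
    ∃ ψ : L ≅ Coh.structureModule Z, (Scheme.Modules.pullback k).map ψ.hom ≫ (AmpleLib.pullO k).hom = φ.hom := by
  haveI : Subsingleton (Coh.HH Z (ClSub.idealMod k.ker) 1) :=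
    ProjCoh.subsingleton_of_iso (nonempty_iso_kernel_unitToPush k).some.symm 1
  obtain ⟨ψ₀⟩ := nonempty_iso_of_pullback k hk hL ParaFLib.isInvertible_structureModule
    (φ ≪≫ (AmpleLib.pullO k).symm)
  let f : Coh.structureModule P ⟶ Coh.structureModule P :=
    (AmpleLib.pullO k).inv ≫ (Scheme.Modules.pullback k).map ψ₀.inv ≫ φ.hom
  haveI := SerreAff.epi_unitToPush k
  obtain ⟨a, ha⟩ := surjective_app_top (ClSub.unitToPush k) (endVal f)
  let g : Coh.structureModule Z ⟶ Coh.structureModule Z := DCohLib.secHom (Coh.structureModule Z) a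
  have hga : endVal g = a := endVal_secHom a
  haveI : Surjective k := RibbonLib.surjective_of_ker_sq k ((sq k.ker).trans hk)
  haveI : IsIso g := by
    refine isIso_of_isUnit_endVal g ?_
    rw [hga]
    exact PicRootLib.isUnit_of_app k (V := (⊤ : Z.Opens)) (ha ▸ isUnit_endVal_of_isIso f : IsUnit (k.app ⊤ a))
  have key : g ≫ ClSub.unitToPush k = ClSub.unitToPush k ≫ (Scheme.Modules.pushforward k).map f := by
    refine DCohLib.hom_unit_ext ?_
    show (ClSub.unitToPush k).app ⊤ (endVal g) = f.app (k ⁻¹ᵁ ⊤) (k.app ⊤ 1)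
    rw [hga, ha, map_one]
    rfl
  refine ⟨ψ₀ ≪≫ asIso g, ?_⟩
  have hg : (Scheme.Modules.pullback k).map g ≫ (AmpleLib.pullO k).hom = (AmpleLib.pullO k).hom ≫ f := by
    apply ((pullbackPushforwardAdjunction k).homEquiv _ _).injective
    rw [LefEtaleLib.homEquiv_pullbackO _ g rfl, Adjunction.homEquiv_naturality_right, LefEtaleLib.homEquiv_pullO, key]
  rw [Iso.trans_hom, Functor.map_comp, Category.assoc, asIso_hom, hg]
  simp only [f, Iso.hom_inv_id_assoc, ← Functor.map_comp_assoc, Iso.hom_inv_id, CategoryTheory.Functor.map_id,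
    Category.id_comp]

end Groth.Agent.LefPicLib
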